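import Groth.Agent.QuietLib.Root
import Groth.Agent.EtGlueLib.UnivHomeoMain

/-!
# Quasi-etale morphisms: composition, base change, lifting along thickenings
-/

set_option autoImplicit false
set_option backward.isDefEq.respectTransparency false
set_option linter.style.haveILetI false

universe u

open CategoryTheory CategoryTheory.Limits AlgebraicGeometry TopologicalSpace

noncomputable section

namespace Groth.Agent.QuietLib

variable {p : ℕ}

/-- A witness on the range of an open immersion. -/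
theorem exists_witness_opensRange {X Y V Y' : Scheme.{u}} {f : Y ⟶ X} (j : V ⟶ Y) [IsOpenImmersion j]
    (r : V ⟶ Y') (e : Y' ⟶ X) (hr : Quiet.IsPthRoot p r) (w : r ≫ e = j ≫ f) :
    ∃ r' : (j.opensRange : Scheme.{u}) ⟶ Y', Quiet.IsPthRoot p r' ∧ r' ≫ e = j.opensRange.ι ≫ f := by
  refine ⟨j.isoOpensRange.inv ≫ r, isPthRoot_of_isPullback (g := 𝟙 Y')
    (g' := j.isoOpensRange.inv) (IsPullback.of_horiz_isIso ⟨by simp⟩) hr, ?_⟩
  rw [Category.assoc, w, ← Category.assoc]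
  congr 1
  rw [Iso.inv_comp_eq, Scheme.Hom.isoOpensRange_hom_ι]

theorem isQuiet_comp [Fact p.Prime] {X Y Z : Scheme.{u}} [FrobSch.IsCharP X p] {f : Y ⟶ X} {g : Z ⟶ Y}
    (hf : Quiet.IsQuiet p f) (hg : Quiet.IsQuiet p g) : Quiet.IsQuiet p (g ≫ f) := by
  intro z
  obtain ⟨V, Z', r, e, hzV, hr, he, w⟩ := hg z
  obtain ⟨W, X', r', e', hyW, hr', he', w'⟩ := hf (g z)
  haveI := he
  haveI := he'
  let Z₁ : Z'.Opens := e ⁻¹ᵁ W
  let V₁ : (V : Scheme.{u}).Opens := r ⁻¹ᵁ Z₁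
  have hr₁ : Quiet.IsPthRoot p (r ∣_ Z₁) := isPthRoot_of_isPullback (isPullback_morphismRestrict r Z₁).flip hr
  haveI : FrobSch.IsCharP X' p := FrobSch.IsCharP.of_hom e' p
  obtain ⟨h1, h2, h3⟩ := uh_of_isPthRoot hr'
  haveI := h1; haveI := h2; haveI := h3
  obtain ⟨E, ε, π, hε, hπ⟩ := EtGlueLib.exists_isPullback (f := r') (u := e ∣_ W) fun z =>
    EtGlueLib.exists_model_univHomeo r' (e ∣_ W) z
  haveI : FrobSch.IsCharP E p := FrobSch.IsCharP.of_hom (ε ≫ e') p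
  have hπ' : Quiet.IsPthRoot p π := isPthRoot_of_isPullback hπ.flip hr'
  have hcomp : Quiet.IsPthRoot p ((r ∣_ Z₁) ≫ π) := isPthRoot_comp hπ' hr₁
  have hw : ((r ∣_ Z₁) ≫ π) ≫ (ε ≫ e') = (V₁.ι ≫ V.ι) ≫ g ≫ f := by
    simp only [Category.assoc]
    rw [reassoc_of% hπ.w, w', ← reassoc_of% w, ← morphismRestrict_ι_assoc r Z₁, morphismRestrict_ι_assoc e W]
  obtain ⟨r'', hr'', hw''⟩ := exists_witness_opensRange (V₁.ι ≫ V.ι) ((r ∣_ Z₁) ≫ π) (ε ≫ e') hcomp hw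
  refine ⟨_, E, r'', ε ≫ e', ?_, hr'', inferInstance, hw''⟩
  have hg' : e (r ⟨z, hzV⟩) = g z := by
    rw [← Scheme.Hom.comp_apply, w]
    rfl
  exact ⟨⟨⟨z, hzV⟩, show e (r ⟨z, hzV⟩) ∈ W from hg'.symm ▸ hyW⟩, rfl⟩

theorem isQuiet_of_isPullback {X Y X' Y' : Scheme.{u}} {f : Y ⟶ X} {g : X' ⟶ X} {f' : Y' ⟶ X'} {g' : Y' ⟶ Y}
    (H : IsPullback g' f' f g) (hf : Quiet.IsQuiet p f) : Quiet.IsQuiet p f' := by
  intro y'
  obtain ⟨V, Z, r, e, hyV, hr, he, w⟩ := hf (g' y')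
  haveI := he
  let Z' := pullback e g
  have hV : IsPullback (g' ∣_ V) ((g' ⁻¹ᵁ V).ι ≫ f') (r ≫ e) g := by
    rw [w]
    exact (isPullback_morphismRestrict g' V).paste_vert H
  have hc : ((g' ∣_ V) ≫ r) ≫ e = ((g' ⁻¹ᵁ V).ι ≫ f') ≫ g := by
    rw [Category.assoc]; exact hV.w
  let r' : ((g' ⁻¹ᵁ V : Y'.Opens) : Scheme.{u}) ⟶ Z' := pullback.lift _ _ hc
  have hsq : IsPullback (g' ∣_ V) r' r (pullback.fst e g) :=
    IsPullback.of_bot (by rwa [show r' ≫ pullback.snd e g = (g' ⁻¹ᵁ V).ι ≫ f' from pullback.lift_snd _ _ _])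
      (pullback.lift_fst _ _ hc).symm (IsPullback.of_hasPullback e g)
  exact ⟨_, Z', r', pullback.snd e g, hyV, isPthRoot_of_isPullback hsq hr, inferInstance, pullback.lift_snd _ _ _⟩

theorem exists_quiet_lift {T U U' : Scheme.{u}} (i : U ⟶ T) [IsClosedImmersion i] [Surjective i] {f' : U' ⟶ U}
    (hf' : Quiet.IsQuiet p f') (u : U') :
    ∃ (V : U'.Opens) (T' : Scheme.{u}) (q : T' ⟶ T) (j : (V : Scheme.{u}) ⟶ T'),
      u ∈ V ∧ Quiet.IsQuiet p q ∧ IsPullback j (V.ι ≫ f') q i := by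
  obtain ⟨V, U'', r, e, huV, hr, he, w⟩ := hf' u
  haveI := he
  haveI : IsIntegralHom i := inferInstance
  haveI : UniversallyInjective i := inferInstance
  obtain ⟨T'', ε, π, hε, hπ⟩ := EtGlueLib.exists_isPullback (f := i) (u := e) fun z =>
    EtGlueLib.exists_model_univHomeo i e z
  haveI : IsClosedImmersion π := MorphismProperty.of_isPullback hπ.flip ‹IsClosedImmersion i›
  haveI : Surjective π := MorphismProperty.of_isPullback hπ.flip ‹Surjective i›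
  have hh := EtUH.isHomeomorph_of_uh (g := π) ⟨inferInstance, inferInstance, inferInstance⟩
  obtain ⟨O₁, hO₁u, hO₁, hrO₁, ht⟩ := (isPthRoot_iff r).1 hr (r ⟨u, huV⟩)
  let πO : T''.Opens := ⟨π '' (O₁ : Set U''), hh.isOpenMap _ O₁.2⟩
  obtain ⟨_, ⟨O : T''.Opens, hO, rfl⟩, huO, hle⟩ := T''.isBasis_affineOpens.exists_subset_of_mem_open
    (show π (r ⟨u, huV⟩) ∈ (πO : Set T'') from ⟨_, hO₁u, rfl⟩) πO.2
  have hO' : IsAffineOpen (π ⁻¹ᵁ O) := hO.preimage π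
  obtain ⟨hB, n, hn⟩ := towerOn_of_le hO₁ hrO₁ ht hO' fun z hz => by
    obtain ⟨z', hz', e⟩ := hle hz
    exact hh.injective e ▸ hz'
  let A := Γ(U'', π ⁻¹ᵁ O)
  let B := Γ((V : Scheme.{u}), r ⁻¹ᵁ (π ⁻¹ᵁ O))
  letI : Algebra Γ(T'', O) A := (π.app O).hom.toAlgebra
  letI : Algebra A B := (r.app (π ⁻¹ᵁ O)).hom.toAlgebra
  letI : Algebra Γ(T'', O) B := ((algebraMap A B).comp (algebraMap Γ(T'', O) A)).toAlgebra
  haveI : IsScalarTower Γ(T'', O) A B := .of_algebraMap_eq' rfl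
  obtain ⟨B', _, i₁, i₂, st, ht', hpo⟩ := exists_lift n (T := Γ(T'', O)) (A := A) (B := B)
    (π.app_surjective O hO) hn
  letI := i₁
  letI := i₂
  haveI := st
  haveI := hpo
  let φ := Spec.map (CommRingCat.ofHom (algebraMap Γ(T'', O) B'))
  have sq₁ : IsPullback (Spec.map (CommRingCat.ofHom (algebraMap B' B))) (Spec.map (CommRingCat.ofHom (algebraMap A B)))
      φ (Spec.map (CommRingCat.ofHom (algebraMap Γ(T'', O) A))) :=
    (isPullback_SpecMap_of_isPushout _ _ _ _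
      (CommRingCat.isPushout_iff_isPushout.2 (Algebra.IsPushout.symm hpo))).flip.flip
  have sq₂ : IsPullback (Spec.map (CommRingCat.ofHom (algebraMap Γ(T'', O) A))) hO'.fromSpec hO.fromSpec π :=
    (Codim1Iso.isPullback_fromSpec π hO).flip
  have hrs : Spec.map (CommRingCat.ofHom (algebraMap A B)) ≫ hO'.fromSpec = hB.fromSpec ≫ r := by
    show Spec.map (r.app (π ⁻¹ᵁ O)) ≫ _ = _
    rw [Scheme.Hom.app_eq_appLE, hO'.SpecMap_appLE_fromSpec r hB le_rfl]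
  have sq₃ : IsPullback (Spec.map (CommRingCat.ofHom (algebraMap B' B))) (hB.fromSpec ≫ r) (φ ≫ hO.fromSpec) π := by
    rw [← hrs]
    exact sq₁.paste_vert sq₂
  have sq₄ : IsPullback (Spec.map (CommRingCat.ofHom (algebraMap B' B))) ((hB.fromSpec ≫ r) ≫ e)
      ((φ ≫ hO.fromSpec) ≫ ε) i := sq₃.paste_vert hπ
  let jV : Spec B ⟶ U' := hB.fromSpec ≫ V.ι
  have sq₅ : IsPullback (jV.isoOpensRange.inv ≫ Spec.map (CommRingCat.ofHom (algebraMap B' B)))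
      (jV.opensRange.ι ≫ f') ((φ ≫ hO.fromSpec) ≫ ε) i := by
    refine IsPullback.of_iso sq₄ jV.isoOpensRange (Iso.refl _) (Iso.refl _) (Iso.refl _) ?_ ?_ (by simp) (by simp)
    · simp
    · simp only [Iso.refl_hom, Category.comp_id, Category.assoc]
      rw [w, ← Category.assoc, ← Category.assoc, Scheme.Hom.isoOpensRange_hom_ι]
  refine ⟨jV.opensRange, Spec (CommRingCat.of B'), (φ ≫ hO.fromSpec) ≫ ε, _, ?_, fun t => ?_, sq₅⟩
  · refine ⟨hB.isoSpec.hom ⟨⟨u, huV⟩, huO⟩, ?_⟩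
    show V.ι (hB.fromSpec (hB.isoSpec.hom ⟨⟨u, huV⟩, huO⟩)) = u
    rw [← Scheme.Hom.comp_apply hB.isoSpec.hom, hB.isoSpec_hom_fromSpec]
    rfl
  · refine ⟨⊤, Spec Γ(T'', O), (⊤ : (Spec (CommRingCat.of B')).Opens).ι ≫ φ, hO.fromSpec ≫ ε, trivial, ?_, inferInstance, ?_⟩
    · haveI : IsIso (⊤ : (Spec (CommRingCat.of B')).Opens).ι := (Scheme.topIso _).isIso_hom
      exact isPthRoot_of_isPullback (g := 𝟙 (Spec Γ(T'', O))) (g' := (⊤ : (Spec (CommRingCat.of B')).Opens).ι)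
        (IsPullback.of_horiz_isIso ⟨(Category.comp_id _).symm⟩) (isPthRoot_specMap ht')
    · simp only [Category.assoc]

end Groth.Agent.QuietLib
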