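import Groth.Agent.QuietLib.Tower
import Groth.Agent.PullbackMod.Flat
import Groth.Agent.Codim1Iso.Scheme
import Groth.Agent.EtUH.Lift
import Groth.Prelude.Def_Frob

/-!
# `p`-th root morphisms: base change, composition, universal homeomorphism
-/

set_option autoImplicit false
set_option backward.isDefEq.respectTransparency false
set_option linter.style.haveILetI false

universe u

open CategoryTheory CategoryTheory.Limits AlgebraicGeometry TopologicalSpace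

noncomputable section

namespace Groth.Agent.QuietLib

variable {p : ℕ}

/-- `Γ(Y, f⁻¹U)` is a tower over `Γ(X, U)`. -/
def TowerOn (p : ℕ) {X Y : Scheme.{u}} (f : Y ⟶ X) (U : X.Opens) : Prop :=
  letI := (f.app U).hom.toAlgebra
  ∃ n : ℕ, Quiet.IsRootTower p n Γ(X, U) Γ(Y, f ⁻¹ᵁ U)

theorem isPthRoot_iff {X Y : Scheme.{u}} (f : Y ⟶ X) : Quiet.IsPthRoot p f ↔
    ∀ x : X, ∃ U : X.Opens, x ∈ U ∧ IsAffineOpen U ∧ IsAffineOpen (f ⁻¹ᵁ U) ∧ TowerOn p f U := by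
  refine ⟨fun h x => ?_, fun h x => ?_⟩
  · obtain ⟨U, hx, h1, h2⟩ := h x
    exact ⟨U.1, hx, U.2, h1, h2⟩
  · obtain ⟨U, hx, hU, h1, h2⟩ := h x
    exact ⟨⟨U, hU⟩, hx, h1, h2⟩

/-- Base change of a tower over affine opens. -/
theorem towerOn_of_isPullback {X Y X' Y' : Scheme.{u}} {f : Y ⟶ X} {g : X' ⟶ X} {f' : Y' ⟶ X'} {g' : Y' ⟶ Y}
    (H : IsPullback g' f' f g) {U : X.Opens} (hU : IsAffineOpen U) (hW : IsAffineOpen (f ⁻¹ᵁ U))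
    (ht : TowerOn p f U) {U' : X'.Opens} (hU' : IsAffineOpen U') (e' : U' ≤ g ⁻¹ᵁ U) :
    IsAffineOpen (f' ⁻¹ᵁ U') ∧ TowerOn p f' U' := by
  obtain ⟨n, hn⟩ := ht
  obtain ⟨h1, h2⟩ := PullbackMod.isPushout_appLE H hU hW hU' le_rfl e'
  have heq : g' ⁻¹ᵁ (f ⁻¹ᵁ U) ⊓ f' ⁻¹ᵁ U' = f' ⁻¹ᵁ U' := by
    refine inf_eq_right.2 ?_
    rw [← Scheme.Hom.comp_preimage, H.w, Scheme.Hom.comp_preimage]
    exact f'.preimage_mono e'
  have key : ∀ (W' : Y'.Opens) (e : W' ≤ f' ⁻¹ᵁ U'), W' = f' ⁻¹ᵁ U' →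
      (letI := (f'.appLE U' W' e).hom.toAlgebra; Quiet.IsRootTower p n Γ(X', U') Γ(Y', W')) → TowerOn p f' U' := by
    rintro W' e rfl h
    refine ⟨n, ?_⟩
    have : f'.appLE U' (f' ⁻¹ᵁ U') e = f'.app U' := by rw [Scheme.Hom.app_eq_appLE]
    rw [this] at h
    exact h
  refine ⟨heq ▸ h1, key _ inf_le_right heq ?_⟩
  letI : Algebra Γ(X, U) Γ(Y, f ⁻¹ᵁ U) := (f.appLE U (f ⁻¹ᵁ U) le_rfl).hom.toAlgebra
  letI : Algebra Γ(X, U) Γ(X', U') := (g.appLE U U' e').hom.toAlgebra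
  letI : Algebra Γ(Y, f ⁻¹ᵁ U) Γ(Y', g' ⁻¹ᵁ (f ⁻¹ᵁ U) ⊓ f' ⁻¹ᵁ U') :=
    (g'.appLE (f ⁻¹ᵁ U) _ inf_le_left).hom.toAlgebra
  letI : Algebra Γ(X', U') Γ(Y', g' ⁻¹ᵁ (f ⁻¹ᵁ U) ⊓ f' ⁻¹ᵁ U') :=
    (f'.appLE U' _ inf_le_right).hom.toAlgebra
  letI : Algebra Γ(X, U) Γ(Y', g' ⁻¹ᵁ (f ⁻¹ᵁ U) ⊓ f' ⁻¹ᵁ U') :=
    ((g'.appLE (f ⁻¹ᵁ U) _ inf_le_left).hom.comp (f.appLE U (f ⁻¹ᵁ U) le_rfl).hom).toAlgebra
  haveI : IsScalarTower Γ(X, U) Γ(Y, f ⁻¹ᵁ U) Γ(Y', g' ⁻¹ᵁ (f ⁻¹ᵁ U) ⊓ f' ⁻¹ᵁ U') :=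
    .of_algebraMap_eq fun _ => rfl
  haveI : IsScalarTower Γ(X, U) Γ(X', U') Γ(Y', g' ⁻¹ᵁ (f ⁻¹ᵁ U) ⊓ f' ⁻¹ᵁ U') :=
    .of_algebraMap_eq' (by
      show ((f.appLE U (f ⁻¹ᵁ U) le_rfl) ≫ g'.appLE (f ⁻¹ᵁ U) _ inf_le_left).hom =
        ((g.appLE U U' e') ≫ f'.appLE U' _ inf_le_right).hom
      simp only [Scheme.Hom.appLE_comp_appLE, H.w])
  haveI : Algebra.IsPushout Γ(X, U) Γ(X', U') Γ(Y, f ⁻¹ᵁ U) Γ(Y', g' ⁻¹ᵁ (f ⁻¹ᵁ U) ⊓ f' ⁻¹ᵁ U') := h2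
  refine isRootTower_of_isPushout n (A := Γ(X, U)) (B := Γ(Y, f ⁻¹ᵁ U)) ?_
  show (letI := (f.appLE U (f ⁻¹ᵁ U) le_rfl).hom.toAlgebra; Quiet.IsRootTower p n Γ(X, U) Γ(Y, f ⁻¹ᵁ U))
  rw [← Scheme.Hom.app_eq_appLE]
  exact hn

/-- Towers restrict to smaller affine opens. -/
theorem towerOn_of_le {X Y : Scheme.{u}} {f : Y ⟶ X} {U U' : X.Opens} (hU : IsAffineOpen U)
    (hW : IsAffineOpen (f ⁻¹ᵁ U)) (ht : TowerOn p f U) (hU' : IsAffineOpen U') (h : U' ≤ U) :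
    IsAffineOpen (f ⁻¹ᵁ U') ∧ TowerOn p f U' :=
  towerOn_of_isPullback (g' := 𝟙 Y) (f' := f) (g := 𝟙 X) (IsPullback.of_horiz_isIso ⟨by simp⟩) hU hW ht hU'
    (fun x hx => h hx)

/-- Root morphisms are stable under base change. -/
theorem isPthRoot_of_isPullback {X Y X' Y' : Scheme.{u}} {f : Y ⟶ X} {g : X' ⟶ X} {f' : Y' ⟶ X'} {g' : Y' ⟶ Y}
    (H : IsPullback g' f' f g) (hf : Quiet.IsPthRoot p f) : Quiet.IsPthRoot p f' := by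
  rw [isPthRoot_iff] at hf ⊢
  intro x'
  obtain ⟨U, hx, hU, hW, ht⟩ := hf (g x')
  obtain ⟨_, ⟨U' : X'.Opens, hU', rfl⟩, hxU', hle⟩ :=
    X'.isBasis_affineOpens.exists_subset_of_mem_open (show x' ∈ ((g ⁻¹ᵁ U : X'.Opens) : Set X') from hx) (g ⁻¹ᵁ U).2
  obtain ⟨h1, h2⟩ := towerOn_of_isPullback H hU hW ht hU' hle
  exact ⟨U', hxU', hU', h1, h2⟩

theorem isAffineHom_of_isPthRoot {X Y : Scheme.{u}} {f : Y ⟶ X} (hf : Quiet.IsPthRoot p f) : IsAffineHom f := by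
  rw [isPthRoot_iff] at hf
  exact isAffineHom_of_forall_exists_isAffineOpen f fun x =>
    let ⟨U, hx, hU, hW, _⟩ := hf x
    ⟨U, hx, hU, hW⟩

/-- In characteristic `p` a root morphism is a universal homeomorphism. -/
theorem uh_of_isPthRoot [Fact p.Prime] {X Y : Scheme.{u}} [FrobSch.IsCharP X p] {f : Y ⟶ X}
    (hf : Quiet.IsPthRoot p f) : IsIntegralHom f ∧ UniversallyInjective f ∧ Surjective f := by
  haveI := isAffineHom_of_isPthRoot hf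
  rw [isPthRoot_iff] at hf
  choose U hxU hU hW ht using hf
  have hcov : ⨆ x, U x = ⊤ := eq_top_iff.mpr fun x _ => Opens.mem_iSup.mpr ⟨x, hxU x⟩
  have key : ∀ x, IsIntegralHom (Spec.map (f.app (U x))) ∧ UniversallyInjective (Spec.map (f.app (U x))) ∧
      Surjective (Spec.map (f.app (U x))) := fun x => by
    letI := (f.app (U x)).hom.toAlgebra
    obtain ⟨n, hn⟩ := ht x
    exact isUnivHomeo_of_isRootTower (Fact.out : p.Prime) n (FrobSch.natCast_eq_zero_app X p (U x)) hn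
  have sq : ∀ x, ∃ j : (f ⁻¹ᵁ U x : Scheme.{u}) ⟶ Spec Γ(Y, f ⁻¹ᵁ U x),
      IsPullback j (f ∣_ U x) (Spec.map (f.app (U x))) (hU x).isoSpec.hom := fun x => by
    have h := (isPullback_morphismRestrict f (U x)).flip
    have h2 := Codim1Iso.isPullback_fromSpec f (hU x)
    have e : (hU x).isoSpec.hom ≫ (hU x).fromSpec = (U x).ι := (hU x).isoSpec_hom_fromSpec
    rw [← e] at h
    have w : (f ⁻¹ᵁ U x).ι ≫ f = ((f ∣_ U x) ≫ (hU x).isoSpec.hom) ≫ (hU x).fromSpec := by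
      rw [Category.assoc]; exact h.w
    exact ⟨h2.lift _ _ w, IsPullback.of_right (by rwa [h2.lift_fst]) (h2.lift_snd _ _ w) h2⟩
  refine ⟨?_, ?_, ?_⟩
  · refine (IsZariskiLocalAtTarget.iff_of_iSup_eq_top (P := @IsIntegralHom) U hcov).2 fun x => ?_
    obtain ⟨j, hj⟩ := sq x
    exact MorphismProperty.of_isPullback hj (key x).1
  · refine (IsZariskiLocalAtTarget.iff_of_iSup_eq_top (P := @UniversallyInjective) U hcov).2 fun x => ?_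
    obtain ⟨j, hj⟩ := sq x
    exact MorphismProperty.of_isPullback hj (key x).2.1
  · refine (IsZariskiLocalAtTarget.iff_of_iSup_eq_top (P := @Surjective) U hcov).2 fun x => ?_
    obtain ⟨j, hj⟩ := sq x
    exact MorphismProperty.of_isPullback hj (key x).2.2

/-- Root morphisms compose. -/
theorem isPthRoot_comp [Fact p.Prime] {X Y Z : Scheme.{u}} [FrobSch.IsCharP X p] {f : Y ⟶ X} {g : Z ⟶ Y}
    (hf : Quiet.IsPthRoot p f) (hg : Quiet.IsPthRoot p g) : Quiet.IsPthRoot p (g ≫ f) := by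
  have hh := EtUH.isHomeomorph_of_uh (g := f) (uh_of_isPthRoot hf)
  rw [isPthRoot_iff] at hf hg ⊢
  intro x
  obtain ⟨U, hxU, hU, hW, ht⟩ := hf x
  obtain ⟨y, hy⟩ := hh.surjective x
  obtain ⟨O, hyO, hO, hgO, htO⟩ := hg y
  let fO : X.Opens := ⟨f '' (O : Set Y), hh.isOpenMap _ O.2⟩
  obtain ⟨_, ⟨U₀ : X.Opens, hU₀, rfl⟩, hxU₀, hle⟩ := X.isBasis_affineOpens.exists_subset_of_mem_open
    (show x ∈ ((U ⊓ fO : X.Opens) : Set X) from ⟨hxU, y, hyO, hy⟩) (U ⊓ fO).2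
  obtain ⟨h1, n, hn⟩ := towerOn_of_le hU hW ht hU₀ fun z hz => (hle hz).1
  have hle' : f ⁻¹ᵁ U₀ ≤ O := fun w hw => by
    obtain ⟨w', hw', e⟩ := (hle hw).2
    exact hh.injective e ▸ hw'
  obtain ⟨h2, m, hm⟩ := towerOn_of_le hO hgO htO h1 hle'
  refine ⟨U₀, hxU₀, hU₀, h2, n + m, ?_⟩
  letI : Algebra Γ(X, U₀) Γ(Y, f ⁻¹ᵁ U₀) := (f.app U₀).hom.toAlgebra
  letI : Algebra Γ(Y, f ⁻¹ᵁ U₀) Γ(Z, (g ≫ f) ⁻¹ᵁ U₀) := (g.app (f ⁻¹ᵁ U₀)).hom.toAlgebra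
  letI : Algebra Γ(X, U₀) Γ(Z, (g ≫ f) ⁻¹ᵁ U₀) := ((g ≫ f).app U₀).hom.toAlgebra
  haveI : IsScalarTower Γ(X, U₀) Γ(Y, f ⁻¹ᵁ U₀) Γ(Z, (g ≫ f) ⁻¹ᵁ U₀) := .of_algebraMap_eq' (by
    show ((g ≫ f).app U₀).hom = (g.app (f ⁻¹ᵁ U₀)).hom.comp (f.app U₀).hom
    rw [Scheme.Hom.comp_app]
    rfl)
  exact isRootTower_trans n (B := Γ(Y, f ⁻¹ᵁ U₀)) hn hm

/-- A tower of rings gives a root morphism of spectra. -/
theorem isPthRoot_specMap {A B : Type u} [CommRing A] [CommRing B] [Algebra A B] {n : ℕ}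
    (h : Quiet.IsRootTower p n A B) : Quiet.IsPthRoot p (Spec.map (CommRingCat.ofHom (algebraMap A B))) := by
  rw [isPthRoot_iff]
  intro x
  let φ := Spec.map (CommRingCat.ofHom (algebraMap A B))
  refine ⟨⊤, trivial, isAffineOpen_top _, isAffineOpen_top _, n, ?_⟩
  let eA := (Scheme.ΓSpecIso (CommRingCat.of A)).inv
  let eB := (Scheme.ΓSpecIso (CommRingCat.of B)).inv
  letI : Algebra A Γ(Spec (CommRingCat.of A), ⊤) := eA.hom.toAlgebra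
  letI : Algebra B Γ(Spec (CommRingCat.of B), φ ⁻¹ᵁ ⊤) := RingHom.toAlgebra eB.hom
  letI : Algebra Γ(Spec (CommRingCat.of A), ⊤) Γ(Spec (CommRingCat.of B), φ ⁻¹ᵁ ⊤) := (φ.app ⊤).hom.toAlgebra
  letI : Algebra A Γ(Spec (CommRingCat.of B), φ ⁻¹ᵁ ⊤) :=
    (RingHom.comp eB.hom (algebraMap A B)).toAlgebra
  haveI : IsScalarTower A B Γ(Spec (CommRingCat.of B), φ ⁻¹ᵁ ⊤) := .of_algebraMap_eq' rfl
  have nat : CommRingCat.ofHom (algebraMap A B) ≫ eB = eA ≫ φ.appTop :=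
    Scheme.ΓSpecIso_inv_naturality (CommRingCat.ofHom (algebraMap A B))
  haveI : IsScalarTower A Γ(Spec (CommRingCat.of A), ⊤) Γ(Spec (CommRingCat.of B), φ ⁻¹ᵁ ⊤) :=
    .of_algebraMap_eq' (congrArg CommRingCat.Hom.hom nat)
  haveI : Algebra.IsPushout A Γ(Spec (CommRingCat.of A), ⊤) B Γ(Spec (CommRingCat.of B), φ ⁻¹ᵁ ⊤) := by
    refine CommRingCat.isPushout_iff_isPushout.1 ?_
    haveI : IsIso (CommRingCat.ofHom (algebraMap A Γ(Spec (CommRingCat.of A), ⊤))) := inferInstanceAs (IsIso eA)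
    haveI : IsIso (CommRingCat.ofHom (algebraMap B Γ(Spec (CommRingCat.of B), φ ⁻¹ᵁ ⊤))) := inferInstanceAs (IsIso eB)
    exact IsPushout.of_horiz_isIso ⟨nat.symm⟩
  exact isRootTower_of_isPushout n (A := A) (B := B) h

end Groth.Agent.QuietLib
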