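import Groth.Prelude.Def_W4c2gaugesfzipsQuiet
import Groth.Agent.S7403
import Groth.Agent.S0415
import Mathlib.RingTheory.IsTensorProduct

/-!
# Towers of `p`-th root extractions: base change, composition, lifting
-/

set_option autoImplicit false
set_option linter.style.haveILetI false

universe u

open CategoryTheory AlgebraicGeometry Polynomial TensorProduct

noncomputable section

namespace Groth.Agent.QuietLib

variable {p : ℕ}

section RootRing

attribute [local instance] Algebra.TensorProduct.rightAlgebra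

variable {A A' : Type u} [CommRing A] [CommRing A'] [Algebra A A'] (a : A)

variable (A') in
/-- The base change map of root rings. -/
def rootMap : Quiet.RootRing p A a →ₐ[A] Quiet.RootRing p A' (algebraMap A A' a) :=
  AdjoinRoot.liftAlgHom _ (Algebra.ofId A _) (AdjoinRoot.root _) (by
    have h := AdjoinRoot.eval₂_root (X ^ p - C (algebraMap A A' a))
    rw [eval₂_sub, eval₂_X_pow, eval₂_C, sub_eq_zero] at h ⊢
    rw [h]
    rfl)

theorem isPushout_rootRing :
    letI := (rootMap (p := p) A' a).toRingHom.toAlgebra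
    haveI : IsScalarTower A (Quiet.RootRing p A a) (Quiet.RootRing p A' (algebraMap A A' a)) :=
      IsScalarTower.of_algebraMap_eq fun x => ((rootMap (p := p) A' a).commutes x).symm
    Algebra.IsPushout A A' (Quiet.RootRing p A a) (Quiet.RootRing p A' (algebraMap A A' a)) := by
  letI := (rootMap (p := p) A' a).toRingHom.toAlgebra
  haveI : IsScalarTower A (Quiet.RootRing p A a) (Quiet.RootRing p A' (algebraMap A A' a)) :=
    IsScalarTower.of_algebraMap_eq fun x => ((rootMap (p := p) A' a).commutes x).symm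
  let R₁ := Quiet.RootRing p A' (algebraMap A A' a)
  let fwd : A' ⊗[A] Quiet.RootRing p A a →ₐ[A'] R₁ :=
    Algebra.TensorProduct.lift (Algebra.ofId A' R₁) (rootMap (p := p) A' a) fun _ _ => Commute.all _ _
  have hroot : AdjoinRoot.root (X ^ p - C a) ^ p = algebraMap A (Quiet.RootRing p A a) a := by
    have h := AdjoinRoot.eval₂_root (X ^ p - C a)
    rw [eval₂_sub, eval₂_X_pow, eval₂_C, sub_eq_zero] at h
    exact h
  let bwd : R₁ →ₐ[A'] A' ⊗[A] Quiet.RootRing p A a :=
    AdjoinRoot.liftAlgHom _ (Algebra.ofId A' _) (1 ⊗ₜ AdjoinRoot.root _) (by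
      rw [eval₂_sub, eval₂_X_pow, eval₂_C, sub_eq_zero, Algebra.TensorProduct.tmul_pow, one_pow, hroot]
      show (1 : A') ⊗ₜ algebraMap A (Quiet.RootRing p A a) a = algebraMap A A' a ⊗ₜ 1
      rw [Algebra.algebraMap_eq_smul_one, Algebra.algebraMap_eq_smul_one, TensorProduct.tmul_smul,
        TensorProduct.smul_tmul'])
  have hb : bwd (AdjoinRoot.root _) = 1 ⊗ₜ AdjoinRoot.root _ := AdjoinRoot.liftAlgHom_root _ _ _ _
  have hm : rootMap (p := p) A' a (AdjoinRoot.root _) = AdjoinRoot.root _ := AdjoinRoot.liftAlgHom_root _ _ _ _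
  have hf : fwd (1 ⊗ₜ AdjoinRoot.root _) = AdjoinRoot.root _ := by
    show Algebra.TensorProduct.lift _ _ _ (1 ⊗ₜ AdjoinRoot.root _) = _
    rw [Algebra.TensorProduct.lift_tmul, map_one, one_mul, hm]
  have h1 : fwd.comp bwd = AlgHom.id _ _ := by
    refine AdjoinRoot.algHom_ext ?_
    show fwd (bwd _) = _
    rw [hb, hf]
    rfl
  have h2 : bwd.comp fwd = AlgHom.id _ _ := by
    refine Algebra.TensorProduct.ext (Subsingleton.elim _ _) ?_
    refine AdjoinRoot.algHom_ext ?_
    show bwd (fwd (1 ⊗ₜ AdjoinRoot.root _)) = 1 ⊗ₜ AdjoinRoot.root _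
    rw [hf, hb]
  refine Algebra.IsPushout.of_equiv (AlgEquiv.ofAlgHom fwd bwd h1 h2) ?_
  refine RingHom.ext fun x => ?_
  show fwd (1 ⊗ₜ x) = rootMap (p := p) A' a x
  show Algebra.TensorProduct.lift _ _ _ (1 ⊗ₜ x) = _
  rw [Algebra.TensorProduct.lift_tmul, map_one, one_mul]

end RootRing

/-- A pushout of a tower is a tower. -/
theorem isRootTower_of_isPushout : ∀ (n : ℕ) {A B A' B' : Type u} [CommRing A] [CommRing B] [CommRing A']
    [CommRing B'] [Algebra A B] [Algebra A A'] [Algebra A' B'] [Algebra B B'] [Algebra A B']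
    [IsScalarTower A A' B'] [IsScalarTower A B B'] [Algebra.IsPushout A A' B B'],
    Quiet.IsRootTower p n A B → Quiet.IsRootTower p n A' B'
  | 0, A, B, A', B', _, _, _, _, _, _, _, _, _, _, _, hpo, ⟨e⟩ =>
    ⟨(Algebra.IsPushout.equiv A A' B B').symm.trans
      ((Algebra.TensorProduct.congr (AlgEquiv.refl : A' ≃ₐ[A'] A') e).trans
        (Algebra.TensorProduct.rid A A' A'))⟩
  | n + 1, A, B, A', B', _, _, _, _, _, _, _, _, _, _, _, hpo, ⟨a, i, st, ht⟩ => by
    letI := i
    haveI := st
    let R₁ := Quiet.RootRing p A a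
    let R₁' := Quiet.RootRing p A' (algebraMap A A' a)
    letI : Algebra R₁ R₁' := (rootMap (p := p) A' a).toRingHom.toAlgebra
    haveI : IsScalarTower A R₁ R₁' :=
      IsScalarTower.of_algebraMap_eq fun x => ((rootMap (p := p) A' a).commutes x).symm
    haveI : Algebra.IsPushout A A' R₁ R₁' := isPushout_rootRing a
    haveI : Algebra.IsPushout A R₁ A' R₁' := Algebra.IsPushout.symm inferInstance
    letI : Algebra R₁ B' := ((algebraMap B B').comp (algebraMap R₁ B)).toAlgebra
    haveI : IsScalarTower R₁ B B' := IsScalarTower.of_algebraMap_eq' rfl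
    haveI : IsScalarTower A R₁ B' := IsScalarTower.of_algebraMap_eq fun x => by
      rw [IsScalarTower.algebraMap_apply A B B', IsScalarTower.algebraMap_apply A R₁ B]
      rfl
    let χ : R₁' →ₐ[A'] B' := AdjoinRoot.liftAlgHom _ (Algebra.ofId A' B')
      (algebraMap R₁ B' (AdjoinRoot.root _)) (by
        have h := congrArg (algebraMap R₁ B') (AdjoinRoot.eval₂_root (X ^ p - C a))
        rw [eval₂_sub, eval₂_X_pow, eval₂_C, map_sub, map_pow, map_zero, sub_eq_zero] at h
        rw [eval₂_sub, eval₂_X_pow, eval₂_C, sub_eq_zero, h, ← AdjoinRoot.algebraMap_eq,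
          ← IsScalarTower.algebraMap_apply, IsScalarTower.algebraMap_apply A A' B']
        rfl)
    letI : Algebra R₁' B' := χ.toRingHom.toAlgebra
    haveI : IsScalarTower A' R₁' B' := IsScalarTower.of_algebraMap_eq fun x => (χ.commutes x).symm
    haveI : IsScalarTower R₁ R₁' B' := by
      refine IsScalarTower.of_algebraMap_eq' ?_
      have h : (IsScalarTower.toAlgHom A R₁ B') = (χ.restrictScalars A).comp (rootMap (p := p) A' a) :=
        AdjoinRoot.algHom_ext (by
          show algebraMap R₁ B' _ = χ (rootMap (p := p) A' a _)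
          rw [show rootMap (p := p) A' a (AdjoinRoot.root (X ^ p - C a)) = AdjoinRoot.root _ from
            AdjoinRoot.liftAlgHom_root _ _ _ _]
          exact (AdjoinRoot.liftAlgHom_root _ _ _ _).symm)
      exact congrArg AlgHom.toRingHom h
    haveI : IsScalarTower A R₁' B' := IsScalarTower.of_algebraMap_eq fun x => by
      rw [IsScalarTower.algebraMap_apply A A' B', IsScalarTower.algebraMap_apply A' R₁' B',
        IsScalarTower.algebraMap_apply A A' R₁']
    haveI : Algebra.IsPushout R₁ R₁' B B' :=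
      ((Algebra.IsPushout.comp_iff A R₁ A' R₁' (T := B) (T' := B')).1 hpo.symm).symm
    exact ⟨algebraMap A A' a, inferInstance, inferInstance, isRootTower_of_isPushout n ht⟩

/-- Towers compose. -/
theorem isRootTower_trans : ∀ (n : ℕ) {m : ℕ} {A B C : Type u} [CommRing A] [CommRing B] [CommRing C]
    [Algebra A B] [Algebra B C] [Algebra A C] [IsScalarTower A B C],
    Quiet.IsRootTower p n A B → Quiet.IsRootTower p m B C → Quiet.IsRootTower p (n + m) A C
  | 0, m, A, B, C, _, _, _, _, _, _, _, ⟨e⟩, h₂ => by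
    letI : Algebra B A := e.toAlgHom.toRingHom.toAlgebra
    haveI : IsScalarTower B A C := IsScalarTower.of_algebraMap_eq fun b => by
      have hb : algebraMap A B (e b) = b := by
        apply e.injective
        rw [AlgEquiv.commutes]
        rfl
      rw [show algebraMap B A b = e b from rfl, IsScalarTower.algebraMap_apply A B C, hb]
    haveI : Algebra.IsPushout B A C C := ⟨by
      let φ : A ⊗[B] C →ₐ[A] C :=
        Algebra.TensorProduct.lift (Algebra.ofId A C) (IsScalarTower.toAlgHom B C C) fun _ _ => Commute.all _ _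
      have hz : ∀ z : A ⊗[B] C, ∃ c : C, z = 1 ⊗ₜ c := fun z => by
        induction z with
        | zero => exact ⟨0, (tmul_zero C 1).symm⟩
        | add u v hu hv =>
          obtain ⟨c, rfl⟩ := hu
          obtain ⟨d, rfl⟩ := hv
          exact ⟨c + d, (tmul_add _ _ _).symm⟩
        | tmul s t =>
          obtain ⟨y, rfl⟩ := e.surjective s
          refine ⟨y • t, ?_⟩
          rw [tmul_smul, TensorProduct.smul_tmul', Algebra.smul_def, mul_one]
          rfl
      have hφ : ∀ c : C, φ (1 ⊗ₜ c) = c := fun c => by simp [φ]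
      have hbij : Function.Bijective φ := by
        refine ⟨fun u v h => ?_, fun c => ⟨1 ⊗ₜ c, hφ c⟩⟩
        obtain ⟨c, rfl⟩ := hz u
        obtain ⟨d, rfl⟩ := hz v
        rw [hφ, hφ] at h
        rw [h]
      exact IsBaseChange.of_equiv (LinearEquiv.ofBijective φ.toLinearMap hbij) hφ⟩
    rw [Nat.zero_add]
    exact isRootTower_of_isPushout m h₂
  | n + 1, m, A, B, C, _, _, _, _, _, _, _, ⟨a, i, st, h₁⟩, h₂ => by
    letI := i
    haveI := st
    letI : Algebra (Quiet.RootRing p A a) C :=
      ((algebraMap B C).comp (algebraMap (Quiet.RootRing p A a) B)).toAlgebra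
    haveI : IsScalarTower (Quiet.RootRing p A a) B C := IsScalarTower.of_algebraMap_eq' rfl
    rw [Nat.succ_add]
    refine ⟨a, inferInstance, IsScalarTower.of_algebraMap_eq fun x => ?_, isRootTower_trans n h₁ h₂⟩
    rw [IsScalarTower.algebraMap_apply A B C, IsScalarTower.algebraMap_apply A (Quiet.RootRing p A a) B]
    rfl

/-- Towers lift along surjections. -/
theorem exists_lift : ∀ (n : ℕ) {T A B : Type u} [CommRing T] [CommRing A] [CommRing B] [Algebra T A]
    [Algebra A B] [Algebra T B] [IsScalarTower T A B],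
    Function.Surjective (algebraMap T A) → Quiet.IsRootTower p n A B →
    ∃ (B' : Type u) (_ : CommRing B') (_ : Algebra T B') (_ : Algebra B' B) (_ : IsScalarTower T B' B),
      Quiet.IsRootTower p n T B' ∧ Algebra.IsPushout T A B' B
  | 0, T, A, B, _, _, _, _, _, _, _, _, ⟨e⟩ => by
    refine ⟨T, inferInstance, Algebra.id T, inferInstance, inferInstance, ⟨AlgEquiv.refl⟩, ?_⟩
    haveI : Algebra.IsPushout T A T A := inferInstance
    exact Algebra.IsPushout.of_equiv (h := ‹Algebra.IsPushout T A T A›) e.symm (RingHom.ext fun x =>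
      (e.symm.commutes (algebraMap T A x)).trans (IsScalarTower.algebraMap_apply T A B x).symm)
  | n + 1, T, A, B, _, _, _, _, _, _, _, hs, ⟨a, i, st, ht⟩ => by
    letI := i
    haveI := st
    obtain ⟨t, rfl⟩ := hs a
    let S₁ := Quiet.RootRing p T t
    let R₁ := Quiet.RootRing p A (algebraMap T A t)
    letI : Algebra S₁ R₁ := (rootMap (p := p) A t).toRingHom.toAlgebra
    haveI : IsScalarTower T S₁ R₁ :=
      IsScalarTower.of_algebraMap_eq fun x => ((rootMap (p := p) A t).commutes x).symm
    haveI : Algebra.IsPushout T A S₁ R₁ := isPushout_rootRing t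
    haveI : Algebra.IsPushout T S₁ A R₁ := Algebra.IsPushout.symm inferInstance
    letI : Algebra S₁ B := ((algebraMap R₁ B).comp (algebraMap S₁ R₁)).toAlgebra
    haveI : IsScalarTower S₁ R₁ B := IsScalarTower.of_algebraMap_eq' rfl
    have hs₁ : Function.Surjective (algebraMap S₁ R₁) := fun z => by
      induction z using AdjoinRoot.induction_on with
      | _ q =>
        obtain ⟨q', rfl⟩ := Polynomial.map_surjective (algebraMap T A) hs q
        refine ⟨AdjoinRoot.mk _ q', ?_⟩
        show rootMap (p := p) A t (AdjoinRoot.mk _ q') = _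
        rw [rootMap, AdjoinRoot.liftAlgHom_mk, ← AdjoinRoot.aeval_eq, aeval_def, eval₂_map]
        rfl
    obtain ⟨B', _, i₁, i₂, st₁, ht', hpo⟩ := exists_lift n hs₁ ht
    letI := i₁
    letI := i₂
    haveI := st₁
    letI : Algebra T B' := ((algebraMap S₁ B').comp (algebraMap T S₁)).toAlgebra
    haveI : IsScalarTower T S₁ B' := IsScalarTower.of_algebraMap_eq' rfl
    haveI : IsScalarTower T S₁ B := IsScalarTower.of_algebraMap_eq fun x => by
      rw [IsScalarTower.algebraMap_apply S₁ R₁ B, ← IsScalarTower.algebraMap_apply T S₁ R₁,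
        IsScalarTower.algebraMap_apply T A R₁, ← IsScalarTower.algebraMap_apply A R₁ B,
        ← IsScalarTower.algebraMap_apply T A B]
    haveI : IsScalarTower T B' B := IsScalarTower.of_algebraMap_eq fun x => by
      rw [IsScalarTower.algebraMap_apply T S₁ B', ← IsScalarTower.algebraMap_apply S₁ B' B,
        ← IsScalarTower.algebraMap_apply T S₁ B]
    haveI : IsScalarTower T R₁ B := IsScalarTower.of_algebraMap_eq fun x => by
      rw [IsScalarTower.algebraMap_apply T S₁ B, IsScalarTower.algebraMap_apply S₁ R₁ B,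
        ← IsScalarTower.algebraMap_apply T S₁ R₁]
    refine ⟨B', inferInstance, inferInstance, i₂, inferInstance, ⟨t, i₁, inferInstance, ht'⟩, ?_⟩
    exact ((Algebra.IsPushout.comp_iff T S₁ A R₁ (T := B') (T' := B)).2 hpo.symm).symm

/-- In characteristic `p` a tower is a universal homeomorphism. -/
theorem isUnivHomeo_of_isRootTower (hp : p.Prime) : ∀ (n : ℕ) {A B : Type u} [CommRing A] [CommRing B]
    [Algebra A B], (p : A) = 0 → Quiet.IsRootTower p n A B →
    IsIntegralHom (Spec.map (CommRingCat.ofHom (algebraMap A B))) ∧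
      UniversallyInjective (Spec.map (CommRingCat.ofHom (algebraMap A B))) ∧
      Surjective (Spec.map (CommRingCat.ofHom (algebraMap A B)))
  | 0, A, B, _, _, _, _, ⟨e⟩ => by
    haveI : IsIso (CommRingCat.ofHom (algebraMap A B)) := by
      rw [show algebraMap A B = e.symm.toRingEquiv.toRingHom from RingHom.ext fun x => (e.symm.commutes x).symm]
      exact e.symm.toRingEquiv.toCommRingCatIso.isIso_hom
    exact ⟨inferInstance, inferInstance, inferInstance⟩
  | n + 1, A, B, _, _, _, hA, ⟨a, i, st, ht⟩ => by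
    letI := i
    haveI := st
    let R₁ := Quiet.RootRing p A a
    have hR₁ : (p : R₁) = 0 := by rw [← map_natCast (algebraMap A R₁), hA, map_zero]
    obtain ⟨h1, h2, h3⟩ := isUnivHomeo_of_isRootTower hp n hR₁ ht
    have hxy : (p : A) ^ p * a = 0 ^ p := by simp [hA, zero_pow hp.ne_zero]
    obtain ⟨k1, k2, k3⟩ := (S0415.result _).1 (S7403.result A p hp a 0 hxy)
    let I : Ideal A[X] := Ideal.span ({X ^ p - C a, C (p : A) * X - C 0} : Set A[X])
    let q : (A[X] ⧸ I) ≃ₐ[A] R₁ := Ideal.quotientEquivAlgOfEq A (by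
      show I = Ideal.span {X ^ p - C a}
      simp [I, hA, Ideal.span_insert])
    haveI : IsIso (CommRingCat.ofHom q.toRingEquiv.toRingHom) := q.toRingEquiv.toCommRingCatIso.isIso_hom
    have e₁ : Spec.map (CommRingCat.ofHom (algebraMap A R₁)) =
        Spec.map (CommRingCat.ofHom q.toRingEquiv.toRingHom) ≫ Spec.map (CommRingCat.ofHom (algebraMap A (A[X] ⧸ I))) := by
      rw [← Spec.map_comp, ← CommRingCat.ofHom_comp]
      congr 2
    have e₂ : Spec.map (CommRingCat.ofHom (algebraMap A B)) =
        Spec.map (CommRingCat.ofHom (algebraMap R₁ B)) ≫ Spec.map (CommRingCat.ofHom (algebraMap A R₁)) := by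
      rw [← Spec.map_comp, ← CommRingCat.ofHom_comp]
      exact congrArg (fun f => Spec.map (CommRingCat.ofHom f)) (IsScalarTower.algebraMap_eq A R₁ B)
    rw [e₂, e₁]
    exact ⟨inferInstance, MorphismProperty.comp_mem @UniversallyInjective _ _ h2
        (MorphismProperty.comp_mem @UniversallyInjective _ _ inferInstance k2),
      MorphismProperty.comp_mem @Surjective _ _ h3 (MorphismProperty.comp_mem @Surjective _ _ inferInstance k3)⟩

end Groth.Agent.QuietLib
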